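import Groth.Agent.Triage.CMBC

/-!
# Arbitrary base change of the Cohen–Macaulay locus of a morphism locally of finite type
-/

set_option autoImplicit false
set_option backward.isDefEq.respectTransparency false
universe u

open AlgebraicGeometry CategoryTheory CategoryTheory.Limits IsLocalRing TensorProduct

namespace Groth.Agent.CMBCAny

open Groth.Agent

/-- The residue fields of a scheme locally of finite type over a field are finitely generated
field extensions of it. -/
theorem essFiniteType_of_fromSpecResidueField {k : CommRingCat.{u}} (hk : IsField k) {F : Scheme.{u}}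
    (p : F ⟶ Spec k) [LocallyOfFiniteType p] (z : F) (φ : k ⟶ F.residueField z)
    (hφ : Spec.map φ = F.fromSpecResidueField z ≫ p) : φ.hom.EssFiniteType := by
  letI := hk.toField
  have h1 := Triage.CMBC.essFiniteType_residueFieldMap p z
  rw [← p.SpecMap_residueFieldMap_fromSpecResidueField z,
    ← Scheme.Spec.map_residueFieldIso_inv_eq_fromSpecResidueField, ← Spec.map_comp, ← Spec.map_comp,
    Spec.map_inj] at hφ
  rw [hφ]
  haveI : (p z).asIdeal.IsMaximal := by
    rw [Ideal.eq_bot_of_prime (p z).asIdeal]
    exact Ideal.bot_isMaximal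
  have h2 : (CommRingCat.ofHom (algebraMap k (p z).asIdeal.ResidueField)).hom.EssFiniteType :=
    RingHom.FiniteType.essFiniteType (RingHom.FiniteType.of_surjective _
      (Ideal.algebraMap_residueField_surjective _))
  have h3 : (Scheme.Spec.residueFieldIso k (p z)).inv.hom.EssFiniteType :=
    RingHom.FiniteType.essFiniteType (RingHom.FiniteType.of_surjective _
      (ConcreteCategory.bijective_of_isIso (Scheme.Spec.residueFieldIso k (p z)).inv).2)
  exact (h2.comp h3).comp h1

/-- The local rings of the tensor product of two fields, the first finitely generated. -/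
theorem isCM_stalk_of_field_pullback {k K L : Type u} [Field k] [Field K] [Field L] [Algebra k K]
    [Algebra k L] [Algebra.EssFiniteType k K] {G : Scheme.{u}} {a : G ⟶ Spec (CommRingCat.of K)}
    {b : G ⟶ Spec (CommRingCat.of L)}
    (h : IsPullback a b (Spec.map (CommRingCat.ofHom (algebraMap k K))) (Spec.map (CommRingCat.ofHom (algebraMap k L))))
    (w : G) : LocCoh.IsCohenMacaulayLocalRing (G.presheaf.stalk w) := by
  haveI : LocCoh.IsCohenMacaulayRing (K ⊗[k] L) := FlatLoc6.isCM_tensor_field k L K
  let e : G ⟶ Spec (CommRingCat.of (K ⊗[k] L)) := (h.isoPullback ≪≫ pullbackSpecIso k K L).hom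
  let v := e w
  refine Triage.CMMor.isCM_of_equiv ((asIso (e.stalkMap w)).commRingCatIsoToRingEquiv) ?_
  exact Triage.CMMor.isCM_of_equiv
    (Spec.stalkIso (CommRingCat.of (K ⊗[k] L)) v).symm.commRingCatIsoToRingEquiv
    (LocCoh.IsCohenMacaulayRing.isCohenMacaulayLocalRing_localization v.asIdeal)

variable {X S X' T : Scheme.{u}} {f : X ⟶ S} {f' : X' ⟶ T} {g' : X' ⟶ X} {g : T ⟶ S}

/-- Cohen–Macaulayness of the local rings of the fibres along an arbitrary base change. -/
theorem isCM_fibre_iff (hc : IsPullback g' f' f g) [LocallyOfFiniteType f] (x' : X') :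
    LocCoh.IsCohenMacaulayLocalRing
        (↑(X'.presheaf.stalk x') ⧸ (maximalIdeal (T.presheaf.stalk (f' x'))).map (FibFlat.sm f' x' (f' x') rfl)) ↔
      LocCoh.IsCohenMacaulayLocalRing
        (↑(X.presheaf.stalk (g' x')) ⧸
          (maximalIdeal (S.presheaf.stalk (f (g' x')))).map (FibFlat.sm f (g' x') (f (g' x')) rfl)) := by
  haveI : LocallyOfFiniteType f' :=
    MorphismProperty.of_isPullback (P := @LocallyOfFiniteType) hc inferInstance
  have hN : IsLocallyNoetherian (f.fiber (g (f' x'))) :=
    LocallyOfFiniteType.isLocallyNoetherian (f.fiberToSpecResidueField (g (f' x')))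
  have hN' : IsLocallyNoetherian (f'.fiber (f' x')) :=
    LocallyOfFiniteType.isLocallyNoetherian (f'.fiberToSpecResidueField (f' x'))
  have hy : f (g' x') = g (f' x') := by rw [← Scheme.Hom.comp_apply, hc.w, Scheme.Hom.comp_apply]
  have hI : LocCoh.IsCohenMacaulayLocalRing
        (↑(X.presheaf.stalk (g' x')) ⧸
          (maximalIdeal (S.presheaf.stalk (f (g' x')))).map (FibFlat.sm f (g' x') (f (g' x')) rfl)) ↔
      LocCoh.IsCohenMacaulayLocalRing
        (↑(X.presheaf.stalk (g' x')) ⧸
          (maximalIdeal (S.presheaf.stalk (g (f' x')))).map (FibFlat.sm f (g' x') (g (f' x')) hy)) :=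
    Triage.CMMor.isCM_congr (Ideal.quotEquivOfEq (FibFlat.map_max_sm f (g' x') _ hy))
  rw [hI]
  obtain ⟨e, he, hι⟩ := ConsPropLib.exists_fibre_pullback hc (f' x')
  let z' := f'.asFiber x'
  have hz' : f'.fiberι (f' x') z' = x' := f'.fiberι_asFiber x'
  have hz : f.fiberι (g (f' x')) (e z') = g' x' := by
    rw [← Scheme.Hom.comp_apply, hι, Scheme.Hom.comp_apply, hz']
  obtain ⟨E'⟩ := Triage.CMMor.exists_equiv_fibre_stalk_aux f' x' (f' x') rfl z' hz'
  obtain ⟨E⟩ := Triage.CMMor.exists_equiv_fibre_stalk_aux f (g' x') (g (f' x')) hy (e z') hz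
  rw [Triage.CMMor.isCM_congr E', Triage.CMMor.isCM_congr E]
  haveI : Flat e := by
    have h1 : Flat (Spec.map (g.residueFieldMap (f' x'))) := by
      rw [Flat.SpecMap_iff]
      let := (g.residueFieldMap (f' x')).hom.toAlgebra
      exact RingHom.flat_algebraMap_iff.2 inferInstance
    exact MorphismProperty.of_isPullback (P := (@Flat : MorphismProperty Scheme.{u})) he.flip h1
  letI : Algebra ((f.fiber (g (f' x'))).presheaf.stalk (e z')) ((f'.fiber (f' x')).presheaf.stalk z') :=
    (e.stalkMap z').hom.toAlgebra
  haveI : IsLocalHom (algebraMap ((f.fiber (g (f' x'))).presheaf.stalk (e z')) ((f'.fiber (f' x')).presheaf.stalk z')) :=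
    inferInstanceAs (IsLocalHom (e.stalkMap z').hom)
  haveI : Module.Flat ((f.fiber (g (f' x'))).presheaf.stalk (e z')) ((f'.fiber (f' x')).presheaf.stalk z') :=
    Flat.stalkMap e z'
  rw [Triage.CMMor.isCM_iff ((f.fiber (g (f' x'))).presheaf.stalk (e z')) ((f'.fiber (f' x')).presheaf.stalk z')]
  refine ⟨And.left, fun h => ⟨h, ?_⟩⟩
  refine (Triage.CMMor.isCM_congr (Triage.CMMor.exists_equiv_fibre_stalk e z').some).2 ?_
  -- the fibre of `e` is the base change of a finitely generated field extension
  let F := f.fiber (g (f' x'))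
  let k := S.residueField (g (f' x'))
  obtain ⟨φ, hφ⟩ := Spec.map_surjective (F.fromSpecResidueField (e z') ≫ f.fiberToSpecResidueField (g (f' x')))
  have hk : φ.hom.EssFiniteType :=
    essFiniteType_of_fromSpecResidueField (Field.toIsField k) (f.fiberToSpecResidueField (g (f' x'))) (e z') φ hφ
  letI : Field k := inferInstance
  letI : Algebra k (F.residueField (e z')) := φ.hom.toAlgebra
  letI : Algebra k (T.residueField (f' x')) := (g.residueFieldMap (f' x')).hom.toAlgebra
  haveI : Algebra.EssFiniteType k (F.residueField (e z')) := hk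
  refine isCM_stalk_of_field_pullback (k := k) (K := F.residueField (e z')) (L := T.residueField (f' x'))
    (a := pullback.snd e (F.fromSpecResidueField (e z')))
    (b := pullback.fst e (F.fromSpecResidueField (e z')) ≫ f'.fiberToSpecResidueField (f' x')) ?_ _
  show IsPullback _ _ (Spec.map φ) (Spec.map (g.residueFieldMap (f' x')))
  rw [hφ]
  exact (IsPullback.of_hasPullback e (F.fromSpecResidueField (e z'))).flip.paste_vert he

end Groth.Agent.CMBCAny
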