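import Groth.Prelude.Def_Curv2
import Groth.Agent.CMBCAny.Basic
import Groth.Agent.GeomField.Chart
import Mathlib

/-! Cohen–Macaulayness of local rings along an extension of the ground field. -/

set_option autoImplicit false
set_option backward.isDefEq.respectTransparency false
set_option backward.isDefEq.respectTransparency.types false
universe u

open AlgebraicGeometry CategoryTheory CategoryTheory.Limits IsLocalRing TensorProduct

namespace Groth.Agent.CMBCAny

variable {k : Type u} [Field k] {X : Scheme.{u}} [X.Over (Spec (CommRingCat.of k))]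
  {K : Type u} [Field K] [Algebra k K]

/-- CM of the local ring upstairs is CM downstairs, given that the residue field or the extension is
finitely generated. -/
theorem isCM_stalk_bc_iff (y : ↥(Curv2.bc k X K))
    [IsNoetherianRing (X.presheaf.stalk (Curv2.bcFst k X K y))]
    [IsNoetherianRing ((Curv2.bc k X K).presheaf.stalk y)]
    (h : ∀ φ : k →+* X.residueField (Curv2.bcFst k X K y),
      Spec.map (CommRingCat.ofHom φ) =
          X.fromSpecResidueField (Curv2.bcFst k X K y) ≫ (X ↘ Spec (CommRingCat.of k)) →
        φ.EssFiniteType ∨ Algebra.EssFiniteType k K) :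
    LocCoh.IsCohenMacaulayLocalRing ↥(X.presheaf.stalk (Curv2.bcFst k X K y)) ↔
      LocCoh.IsCohenMacaulayLocalRing ↥((Curv2.bc k X K).presheaf.stalk y) := by
  let π : Curv2.bc k X K ⟶ X := Curv2.bcFst k X K
  haveI : Flat π := by
    haveI : Flat (Spec.map (CommRingCat.ofHom (algebraMap k K))) := by
      rw [Flat.SpecMap_iff]
      exact RingHom.flat_algebraMap_iff.2 inferInstance
    exact MorphismProperty.pullback_fst _ _ inferInstance
  let x : X := π y
  letI : Algebra (X.presheaf.stalk x) ((Curv2.bc k X K).presheaf.stalk y) := (π.stalkMap y).hom.toAlgebra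
  haveI : IsLocalHom (algebraMap (X.presheaf.stalk x) ((Curv2.bc k X K).presheaf.stalk y)) :=
    inferInstanceAs (IsLocalHom (π.stalkMap y).hom)
  haveI : Module.Flat (X.presheaf.stalk x) ((Curv2.bc k X K).presheaf.stalk y) := Flat.stalkMap π y
  rw [Triage.CMMor.isCM_iff (X.presheaf.stalk x) ((Curv2.bc k X K).presheaf.stalk y)]
  refine ⟨fun hx => ⟨hx, ?_⟩, And.left⟩
  refine (Triage.CMMor.isCM_congr (Triage.CMMor.exists_equiv_fibre_stalk π y).some).2 ?_
  obtain ⟨φ, hφ⟩ := Spec.map_surjective (X.fromSpecResidueField x ≫ (X ↘ Spec (CommRingCat.of k)))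
  letI : Algebra k (X.residueField x) := φ.hom.toAlgebra
  have hsq : IsPullback (pullback.snd π (X.fromSpecResidueField x))
      (pullback.fst π (X.fromSpecResidueField x) ≫ Curv2.bcSnd k X K)
      (Spec.map (CommRingCat.ofHom (algebraMap k (X.residueField x))))
      (Spec.map (CommRingCat.ofHom (algebraMap k K))) := by
    show IsPullback _ _ (Spec.map φ) _
    rw [hφ]
    exact (IsPullback.of_hasPullback π (X.fromSpecResidueField x)).flip.paste_vert
      (IsPullback.of_hasPullback (X ↘ Spec (CommRingCat.of k)) (Spec.map (CommRingCat.ofHom (algebraMap k K))))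
  rcases h φ.hom hφ with h1 | h1
  · haveI : Algebra.EssFiniteType k (X.residueField x) := h1
    exact isCM_stalk_of_field_pullback (k := k) (K := X.residueField x) (L := K) hsq _
  · haveI := h1
    exact Triage.CMBC.isCM_stalk_of_field_pullback (k := k) (K := X.residueField x) (L := K) hsq _

/-- The local rings of the base change along a finitely generated extension are Noetherian. -/
theorem isNoetherianRing_stalk_bc [IsLocallyNoetherian X] [Algebra.EssFiniteType k K]
    (y : ↥(Curv2.bc k X K)) : IsNoetherianRing ((Curv2.bc k X K).presheaf.stalk y) := by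
  obtain ⟨c, P, hP⟩ := GeomField.exists_chart (k := k) (Curv2.bcFst k X K y)
  obtain ⟨Q, rfl⟩ := c.exists_bcEmb_eq K P y hP.symm
  haveI : IsLocallyNoetherian (Spec (CommRingCat.of c.R)) := isLocallyNoetherian_of_isOpenImmersion c.emb
  haveI : IsNoetherianRing c.R := (isLocallyNoetherian_Spec (R := CommRingCat.of c.R)).1 inferInstance
  haveI : IsNoetherianRing (c.R ⊗[k] K) := Algebra.EssFiniteType.isNoetherianRing c.R _
  haveI : IsLocallyNoetherian (Spec (CommRingCat.of (c.R ⊗[k] K))) :=
    (isLocallyNoetherian_Spec (R := CommRingCat.of (c.R ⊗[k] K))).2 ‹_›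
  haveI : IsNoetherianRing ((Spec (CommRingCat.of (c.R ⊗[k] K))).presheaf.stalk Q) := inferInstance
  exact isNoetherianRing_of_ringEquiv _ (asIso ((c.bcEmb K).stalkMap Q)).commRingCatIsoToRingEquiv.symm

end Groth.Agent.CMBCAny
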